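import Cfsg.Agent.ConjChain.Descent

/-!
# Commutation in a chain of conjugates

If `x 0` commutes with `x j` for `j < k` but not with `x k`, then the commutator of `x 0` and
`x k` is central in every window containing both, whence `2 t ≤ 3 k`.
-/

open Pointwise

set_option maxHeartbeats 400000
set_option linter.unusedSectionVars false

namespace CfsgLib.ConjChain

variable {G : Type*} [Group G] {g x0 : G} {t p : ℕ}

theorem x_mem_S {a : ℤ} {l : ℕ} {i : ℤ} (h1 : a ≤ i) (h2 : i < a + l) :
    x g x0 i ∈ S g x0 a l :=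
  Subgroup.subset_closure ⟨i, ⟨h1, h2⟩, rfl⟩

theorem S_mono {a b : ℤ} {l m : ℕ} (h1 : b ≤ a) (h2 : a + l ≤ b + m) :
    S g x0 a l ≤ S g x0 b m :=
  Subgroup.closure_mono (Set.image_mono (Set.Ico_subset_Ico h1 h2))

theorem commute_of_mem {a : ℤ} {l : ℕ} {y v : G}
    (h : ∀ i : ℤ, a ≤ i → i < a + l → Commute y (x g x0 i)) (hv : v ∈ S g x0 a l) :
    Commute y v := by
  induction hv using Subgroup.closure_induction with
  | mem z hz => obtain ⟨i, hi, rfl⟩ := hz; exact h i hi.1 hi.2
  | one => exact Commute.one_right _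
  | mul z w _ _ hz hw => exact hz.mul_right hw
  | inv z _ hz => exact hz.inv_right

theorem commute_x (k : ℕ) (hk : ∀ d : ℕ, d < k → Commute (x g x0 0) (x g x0 d)) (i j : ℤ)
    (h1 : i - j < k) (h2 : j - i < k) : Commute (x g x0 i) (x g x0 j) := by
  wlog h : i ≤ j generalizing i j
  · exact (this j i h2 h1 (by omega)).symm
  obtain ⟨d, hd⟩ : ∃ d : ℕ, j = i + d := ⟨(j - i).toNat, by omega⟩
  have h3 := hk d (by omega)
  have h4 := h3.map ((MulAut.conj (g ^ i)⁻¹).toMonoidHom)
  have e : ∀ m, (MulAut.conj (g ^ i)⁻¹).toMonoidHom (x g x0 m) = x g x0 (m + i) := fun m => by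
    rw [← smul_x]; rfl
  rw [e, e, zero_add] at h4
  rwa [hd, add_comm i]

theorem not_commute_shift {k : ℕ} (hnot : ¬ Commute (x g x0 0) (x g x0 k)) (i : ℤ) :
    ¬ Commute (x g x0 i) (x g x0 (i + k)) := by
  intro h
  have h4 := h.map ((MulAut.conj (g ^ (-i))⁻¹).toMonoidHom)
  have e : ∀ m, (MulAut.conj (g ^ (-i))⁻¹).toMonoidHom (x g x0 m) = x g x0 (m + -i) := fun m => by
    rw [← smul_x]; rfl
  rw [e, e, add_neg_cancel, show i + (k : ℤ) + -i = k by ring] at h4
  exact hnot h4

variable [Finite G]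

theorem Chain.x_ne_one (hC : Chain g x0 t p) (ht : 1 ≤ t) (i : ℤ) : x g x0 i ≠ 1 := by
  intro h
  have h2 := hC.card_eq i 1 ht
  rw [show S g x0 i 1 = ⊥ from Subgroup.closure_eq_bot_iff.2 (by
    rintro y ⟨j, ⟨h3, h4⟩, rfl⟩
    obtain rfl : j = i := by omega
    exact h), Subgroup.card_bot, pow_one] at h2
  exact hC.prime.one_lt.ne h2

theorem Chain.le_normalizer (hC : Chain g x0 t p) {a b : ℤ} {l : ℕ} (h1 : a ≤ b) (h2 : b ≤ a + 1)
    (hl : l + 1 ≤ t) : S g x0 a (l + 1) ≤ Subgroup.normalizer (S g x0 b l : Set G) := by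
  have hle : S g x0 b l ≤ S g x0 a (l + 1) := S_mono h1 (by push_cast; omega)
  refine (Subgroup.normal_subgroupOf_iff_le_normalizer hle).1 ?_
  apply Subgroup.normal_of_index_eq_minFac_card
  rw [hC.card_eq a (l + 1) hl, hC.prime.pow_minFac (by omega)]
  have h3 := Subgroup.card_mul_index ((S g x0 b l).subgroupOf (S g x0 a (l + 1)))
  rw [Nat.card_congr (Subgroup.subgroupOfEquivOfLe hle).toEquiv, hC.card_eq b l (by omega),
    hC.card_eq a (l + 1) hl, pow_succ] at h3
  exact Nat.eq_of_mul_eq_mul_left (pow_pos hC.prime.pos _) h3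

/-- The commutator of the two ends of a window lies in the inner window. -/
theorem Chain.comm_mem (hC : Chain g x0 t p) {a b i j : ℤ} {l : ℕ} (hl : l + 2 ≤ t)
    (hb : b = a + (l + 1)) (hij : i = a ∧ j = b ∨ i = b ∧ j = a) :
    x g x0 i * x g x0 j * (x g x0 i)⁻¹ * (x g x0 j)⁻¹ ∈ S g x0 (a + 1) l := by
  apply hC.inter a l (by omega)
  have key : ∀ {H : Subgroup G} {u v : G}, v ∈ Subgroup.normalizer (H : Set G) → u ∈ H →
      u * v * u⁻¹ * v⁻¹ ∈ H ∧ v * u * v⁻¹ * u⁻¹ ∈ H := by
    intro H u v hv hu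
    have h1 : v * u⁻¹ * v⁻¹ ∈ H := (Subgroup.mem_normalizer_iff.1 hv _).1 (inv_mem hu)
    have h2 : v * u * v⁻¹ ∈ H := (Subgroup.mem_normalizer_iff.1 hv _).1 hu
    exact ⟨by simpa [mul_assoc] using mul_mem hu h1,
      by simpa [mul_assoc] using mul_mem h2 (inv_mem hu)⟩
  have e1 := hC.le_normalizer (a := a) (b := a) (l := l + 1) le_rfl (by omega) (by omega)
  have e2 := hC.le_normalizer (a := a) (b := a + 1) (l := l + 1) (by omega) le_rfl (by omega)
  have ha : x g x0 a ∈ S g x0 a (l + 1 + 1) := x_mem_S le_rfl (by push_cast; omega)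
  have hb' : x g x0 b ∈ S g x0 a (l + 1 + 1) := x_mem_S (by omega) (by push_cast; omega)
  have k1 := key (e1 hb') (x_mem_S (g := g) (x0 := x0) (a := a) (l := l + 1) le_rfl
    (by push_cast; omega))
  have k2 := key (e2 ha) (x_mem_S (g := g) (x0 := x0) (a := a + 1) (l := l + 1) (i := b)
    (by omega) (by push_cast; omega))
  rcases hij with ⟨rfl, rfl⟩ | ⟨rfl, rfl⟩
  · exact ⟨k1.1, k2.2⟩
  · exact ⟨k1.2, k2.1⟩

/-- Trimming a window: an element of `S b m` outside the sub-window `S a l` generates with it. -/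
theorem Chain.trim (hC : Chain g x0 t p) {a b : ℤ} {l : ℕ} (hl : l + 1 ≤ t) (h1 : b ≤ a)
    (h2 : a ≤ b + 1) {u y : G} (hu : u ∈ S g x0 b (l + 1)) (huy : Commute y u)
    (hy : ∀ i : ℤ, a ≤ i → i < a + l → Commute y (x g x0 i)) {i0 : ℤ} (hi1 : b ≤ i0)
    (hi2 : i0 < b + (l + 1)) (hbad : ¬ Commute y (x g x0 i0)) : u ∈ S g x0 a l := by
  by_contra hcon
  have hle : S g x0 a l ≤ S g x0 b (l + 1) := S_mono h1 (by push_cast; omega)
  have hgen : S g x0 a l ⊔ Subgroup.zpowers u = S g x0 b (l + 1) := by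
    refine eq_of_card_mul hC.prime le_sup_left (sup_le hle (Subgroup.zpowers_le.2 hu)) ?_ ?_
    · intro h
      exact hcon (h.symm ▸ (le_sup_right (a := S g x0 a l) (Subgroup.mem_zpowers u)))
    · rw [hC.card_eq b (l + 1) hl, hC.card_eq a l (by omega), pow_succ, mul_comm]
  have hcen : S g x0 b (l + 1) ≤ Subgroup.centralizer ({y} : Set G) := by
    rw [← hgen]
    refine sup_le ?_ (Subgroup.zpowers_le.2 (Subgroup.mem_centralizer_singleton_iff.2 huy.symm.eq))
    intro v hv
    exact Subgroup.mem_centralizer_singleton_iff.2 (commute_of_mem hy hv).symm.eq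
  exact hbad (Subgroup.mem_centralizer_singleton_iff.1
    (hcen (x_mem_S hi1 (by push_cast; omega)))).symm

theorem Chain.two_mul_le (hC : Chain g x0 t p) {k : ℕ} (hk1 : 1 ≤ k) (hkt : k < t)
    (hk : ∀ d : ℕ, d < k → Commute (x g x0 0) (x g x0 d))
    (hnot : ¬ Commute (x g x0 0) (x g x0 k)) : 2 * t ≤ 3 * k := by
  have cx := commute_x k hk
  have nc := not_commute_shift hnot
  set u := x g x0 0 * x g x0 k * (x g x0 0)⁻¹ * (x g x0 k)⁻¹ with hu
  have hu1 : u ≠ 1 := by
    intro h
    apply hnot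
    show _ = _
    have h2 := congrArg (fun z => z * x g x0 k * x g x0 0) h
    simpa [hu, mul_assoc] using h2
  have hum : u ∈ S g x0 1 (k - 1) := by
    have h := hC.comm_mem (a := 0) (b := (k : ℤ)) (i := 0) (j := (k : ℤ)) (l := k - 1) (by omega)
      (by omega) (Or.inl ⟨rfl, rfl⟩)
    simpa using h
  -- Q d: u is central in the windows of length k + d + 1 containing its two ends
  have bound : ∀ d : ℕ, k + d < t →
      (∀ j : ℤ, -(d : ℤ) ≤ j → j ≤ k + d → Commute (x g x0 j) u) → 2 * d + 2 ≤ k := by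
    intro d hd hQ
    -- trim from the top
    have top : ∀ e : ℕ, e ≤ d → e + 1 ≤ k → u ∈ S g x0 1 (k - 1 - e) := by
      intro e
      induction e with
      | zero => intro _ _; exact hum
      | succ e ih =>
        intro he1 he2
        have hy := hQ (-((e : ℤ) + 1)) (by omega) (by omega)
        have hmem := ih (by omega) (by omega)
        rw [show k - 1 - e = k - 1 - (e + 1) + 1 by omega] at hmem
        refine hC.trim (i0 := (k : ℤ) - (e + 1)) (by omega) le_rfl (by omega) hmem hy
          (fun i hi hi' => cx _ _ (by omega) (by omega)) (by omega) (by omega) ?_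
        have h := nc (-((e : ℤ) + 1))
        rwa [show -((e : ℤ) + 1) + k = (k : ℤ) - (e + 1) by ring] at h
    by_contra hcon
    -- trim from the bottom
    have bot : ∀ e : ℕ, ∀ m : ℕ, e ≤ d → e + m + 1 ≤ k →
        u ∈ S g x0 1 (e + m) → u ∈ S g x0 (1 + e) m := by
      intro e
      induction e with
      | zero => intro m _ _ h; simpa using h
      | succ e ih =>
        intro m he1 hem h
        have h2 := ih (m + 1) (by omega) (by omega) (by
          rwa [show e + (m + 1) = e + 1 + m by omega])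
        push_cast
        refine hC.trim (i0 := (1 : ℤ) + e) (by omega) (by omega) (by omega) h2
          (hQ ((1 : ℤ) + e + k) (by omega) (by omega))
          (fun i hi hi' => cx _ _ (by omega) (by omega)) le_rfl (by omega) ?_
        intro h3
        exact nc _ h3.symm
    apply hu1
    rcases Nat.lt_or_ge d k with hdk | hdk
    · have h1 := top d le_rfl (by omega)
      have h2 := bot (k - 1 - d) 0 (by omega) (by omega) (by simpa using h1)
      simpa [S] using h2
    · have h1 := top (k - 1) (by omega) (by omega)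
      simpa [S] using h1
  have central : ∀ d : ℕ, k + d < t →
      ∀ j : ℤ, -(d : ℤ) ≤ j → j ≤ k + d → Commute (x g x0 j) u := by
    intro d
    induction d with
    | zero =>
      intro _ j h1 h2
      refine commute_of_mem (fun i hi hi' => cx _ _ ?_ ?_) hum
      · omega
      · omega
    | succ d ih =>
      intro hd
      have hQ := ih (by omega)
      have hb := bound d (by omega) hQ
      intro j h1 h2
      by_cases hj : -(d : ℤ) ≤ j ∧ j ≤ k + d
      · exact hQ j hj.1 hj.2
      have hcases : j = (k : ℤ) + d + 1 ∨ j = -((d : ℤ) + 1) := by omega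
      rcases hcases with rfl | rfl
      · set y := x g x0 ((k : ℤ) + d + 1) with hy
        have hw := hC.comm_mem (a := 0) (b := (k : ℤ) + d + 1) (i := (k : ℤ) + d + 1) (j := 0)
          (l := k + d) (by omega) (by push_cast; ring) (Or.inr ⟨rfl, rfl⟩)
        set w := y * x g x0 0 * y⁻¹ * (x g x0 0)⁻¹ with hwdef
        have hwk : Commute (x g x0 k) w :=
          commute_of_mem (fun i hi hi' => cx _ _ (by omega) (by push_cast at hi'; omega)) hw
        have hwu : Commute u w :=
          commute_of_mem (fun i hi hi' => (hQ i (by omega) (by push_cast at hi'; omega)).symm) hw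
        have hyk : Commute y (x g x0 k) := cx _ _ (by omega) (by omega)
        have hy0 : y * x g x0 0 * y⁻¹ = w * x g x0 0 := by rw [hwdef]; group
        have hyk' : y * x g x0 k * y⁻¹ = x g x0 k := by rw [hyk.eq, mul_inv_cancel_right]
        have : y * u * y⁻¹ = u := by
          calc y * u * y⁻¹ = (y * x g x0 0 * y⁻¹) * (y * x g x0 k * y⁻¹) *
                (y * x g x0 0 * y⁻¹)⁻¹ * (y * x g x0 k * y⁻¹)⁻¹ := by rw [hu]; group
            _ = w * x g x0 0 * x g x0 k * (x g x0 0)⁻¹ * (w⁻¹ * (x g x0 k)⁻¹) := by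
              rw [hy0, hyk']; group
            _ = w * u * w⁻¹ := by
              rw [← mul_inv_rev, hwk.eq, mul_inv_rev, hu]; group
            _ = u := by rw [← hwu.eq, mul_inv_cancel_right]
        exact eq_mul_inv_iff_mul_eq.1 this.symm |>.symm
      · set y := x g x0 (-((d : ℤ) + 1)) with hy
        have hw := hC.comm_mem (a := -((d : ℤ) + 1)) (b := (k : ℤ)) (i := -((d : ℤ) + 1))
          (j := (k : ℤ)) (l := k + d) (by omega) (by push_cast; ring) (Or.inl ⟨rfl, rfl⟩)
        set w := y * x g x0 k * y⁻¹ * (x g x0 k)⁻¹ with hwdef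
        have hw0 : Commute (x g x0 0) w :=
          commute_of_mem (fun i hi hi' => cx _ _ (by push_cast at hi'; omega) (by push_cast at hi'; omega)) hw
        have hwu : Commute u w :=
          commute_of_mem (fun i hi hi' => (hQ i (by omega) (by push_cast at hi'; omega)).symm) hw
        have hy0c : Commute y (x g x0 0) := cx _ _ (by omega) (by omega)
        have hyk : y * x g x0 k * y⁻¹ = w * x g x0 k := by rw [hwdef]; group
        have hy0' : y * x g x0 0 * y⁻¹ = x g x0 0 := by rw [hy0c.eq, mul_inv_cancel_right]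
        have : y * u * y⁻¹ = u := by
          calc y * u * y⁻¹ = (y * x g x0 0 * y⁻¹) * (y * x g x0 k * y⁻¹) *
                (y * x g x0 0 * y⁻¹)⁻¹ * (y * x g x0 k * y⁻¹)⁻¹ := by rw [hu]; group
            _ = (x g x0 0 * w) * x g x0 k * (x g x0 0)⁻¹ * (x g x0 k)⁻¹ * w⁻¹ := by
              rw [hy0', hyk]; group
            _ = w * u * w⁻¹ := by rw [hw0.eq, hu]; group
            _ = u := by rw [← hwu.eq, mul_inv_cancel_right]
        exact eq_mul_inv_iff_mul_eq.1 this.symm |>.symm
  have := bound (t - 1 - k) (by omega) (central _ (by omega))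
  omega

end CfsgLib.ConjChain
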