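import Mathlib

/-!
# The chain of intersections of a subgroup with its conjugates

`A g P 0 = P`, `A g P (j+1) = A g P j ⊓ g (A g P j) g⁻¹`.  When the first step is normal of prime
index `p` and `g` normalises no nontrivial normal subgroup of `P`, every step has index `p`
down to the trivial subgroup, and `P` is generated by conjugates of an element of order `p`.
-/

open Pointwise

set_option maxHeartbeats 400000
set_option linter.style.haveILetI false

namespace CfsgLib.ConjChain

variable {G : Type*} [Group G]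

def A (g : G) (P : Subgroup G) : ℕ → Subgroup G
  | 0 => P
  | j + 1 => A g P j ⊓ MulAut.conj g • A g P j

def x (g x0 : G) (i : ℤ) : G := g ^ (-i) * x0 * g ^ i

def S (g x0 : G) (a : ℤ) (l : ℕ) : Subgroup G :=
  Subgroup.closure (x g x0 '' Set.Ico a (a + l))

structure Chain (g x0 : G) (t p : ℕ) : Prop where
  prime : p.Prime
  card_eq : ∀ a l, l ≤ t → Nat.card (S g x0 a l) = p ^ l
  inter : ∀ a l, l + 1 ≤ t → S g x0 a (l + 1) ⊓ S g x0 (a + 1) (l + 1) ≤ S g x0 (a + 1) l

theorem smul_le_normalizer (f : MulAut G) {H K : Subgroup G}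
    (h : H ≤ Subgroup.normalizer (K : Set G)) :
    f • H ≤ Subgroup.normalizer ((f • K : Subgroup G) : Set G) := by
  intro y hy
  rw [Subgroup.mem_pointwise_smul_iff_inv_smul_mem] at hy
  have hy' := Subgroup.mem_normalizer_iff.1 (h hy)
  rw [Subgroup.mem_normalizer_iff]
  intro a
  simp only [Subgroup.mem_pointwise_smul_iff_inv_smul_mem,
    MulAut.smul_def, map_mul, map_inv] at hy' ⊢
  exact hy' _

theorem eq_of_card_mul [Finite G] {p : ℕ} (hp : p.Prime) {H K L : Subgroup G}
    (hHK : H ≤ K) (hKL : K ≤ L) (hne : H ≠ K) (hc : Nat.card L = p * Nat.card H) : K = L := by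
  refine Subgroup.eq_of_le_of_card_ge hKL ?_
  obtain ⟨a, ha⟩ := Subgroup.card_dvd_of_le hHK
  have h1 := Subgroup.card_dvd_of_le hKL
  rw [hc, ha, mul_comm p] at h1
  have h2 : a ∣ p := Nat.dvd_of_mul_dvd_mul_left Nat.card_pos h1
  rcases (Nat.dvd_prime hp).1 h2 with rfl | rfl
  · exact absurd (Subgroup.eq_of_le_of_card_ge hHK (by rw [ha, mul_one])) hne
  · rw [hc, ha, mul_comm]

theorem smul_x (g x0 : G) (m i : ℤ) :
    MulAut.conj (g ^ m)⁻¹ • x g x0 i = x g x0 (i + m) := by
  simp only [x, MulAut.smul_def, MulAut.conj_apply, inv_inv]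
  rw [zpow_neg, zpow_neg, zpow_add]
  group

theorem smul_S (g x0 : G) (m a : ℤ) (l : ℕ) :
    MulAut.conj (g ^ m)⁻¹ • S g x0 a l = S g x0 (a + m) l := by
  rw [S, S, Subgroup.smul_closure]
  congr 1
  ext y
  constructor
  · rintro ⟨_, ⟨i, ⟨h1, h2⟩, rfl⟩, rfl⟩
    exact ⟨i + m, ⟨by omega, by omega⟩, (smul_x g x0 m i).symm⟩
  · rintro ⟨i, ⟨h1, h2⟩, rfl⟩
    refine ⟨x g x0 (i - m), ⟨i - m, ⟨by omega, by omega⟩, rfl⟩, ?_⟩
    show MulAut.conj (g ^ m)⁻¹ • x g x0 (i - m) = _
    rw [smul_x, sub_add_cancel]

theorem card_smul (f : MulAut G) (H : Subgroup G) : Nat.card (f • H : Subgroup G) = Nat.card H :=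
  (Nat.card_congr (Subgroup.equivSMul f H).toEquiv).symm

theorem exists_chain [Finite G] (P : Subgroup G) (g : G) (p : ℕ) (hp : p.Prime)
    (hN : ((P ⊓ MulAut.conj g⁻¹ • P).subgroupOf (MulAut.conj g⁻¹ • P)).Normal)
    (hidx : (P ⊓ MulAut.conj g⁻¹ • P).relIndex (MulAut.conj g⁻¹ • P) = p)
    (h1 : ∀ Q : Subgroup G, Q ≤ P → (Q.subgroupOf P).Normal → MulAut.conj g • Q = Q → Q = ⊥) :
    ∃ (x0 : G) (t : ℕ), 1 ≤ t ∧ Chain g x0 t p ∧ P = S g x0 0 t := by
  classical
  set c := MulAut.conj g with hc
  have hci : MulAut.conj g⁻¹ = c⁻¹ := by rw [hc, map_inv]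
  rw [hci] at hN hidx
  have hA1 : A g P 1 = c • (P ⊓ c⁻¹ • P) := by
    rw [Subgroup.smul_inf, smul_inv_smul, inf_comm]
    rfl
  have step : ∀ j, A g P j ≤ Subgroup.normalizer (A g P (j + 1) : Set G) ∧
      (A g P (j + 1)).relIndex (A g P j) ∣ p := by
    intro j
    induction j with
    | zero =>
      constructor
      · have := smul_le_normalizer c
          ((Subgroup.normal_subgroupOf_iff_le_normalizer inf_le_right).1 hN)
        rw [smul_inv_smul, ← hA1] at this
        exact this
      · rw [show A g P 0 = c • (c⁻¹ • P) by rw [smul_inv_smul]; rfl, hA1,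
          Subgroup.relIndex_pointwise_smul, hidx]
    | succ j ih =>
      set K := A g P (j + 1) with hK
      have hKL : K ≤ c • A g P j := by rw [hK]; exact inf_le_right
      have hn : c • A g P j ≤ Subgroup.normalizer ((c • K : Subgroup G) : Set G) :=
        smul_le_normalizer c ih.1
      have hcK : c • K ≤ c • A g P j :=
        Subgroup.pointwise_smul_le_pointwise_smul_iff.2 (by rw [hK]; exact inf_le_left)
      constructor
      · show K ≤ Subgroup.normalizer ((K ⊓ c • K : Subgroup G) : Set G)
        intro y hy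
        have h2 := Subgroup.mem_normalizer_iff.1 (hn (hKL hy))
        rw [Subgroup.mem_normalizer_iff]
        intro a
        simp only [Subgroup.mem_inf] at h2 ⊢
        constructor
        · rintro ⟨ha, ha'⟩
          exact ⟨mul_mem (mul_mem hy ha) (inv_mem hy), (h2 a).1 ha'⟩
        · rintro ⟨ha, ha'⟩
          refine ⟨?_, (h2 a).2 ha'⟩
          have h3 := mul_mem (mul_mem (inv_mem hy) ha) hy
          simpa [mul_assoc] using h3
      · show (K ⊓ c • K).relIndex K ∣ p
        haveI : ((c • K).subgroupOf (c • A g P j)).Normal :=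
          (Subgroup.normal_subgroupOf_iff_le_normalizer hcK).2 hn
        rw [Subgroup.inf_relIndex_left, ← Subgroup.relIndex_subgroupOf hKL]
        refine (Subgroup.relIndex_dvd_index_of_normal _ _).trans ?_
        show (c • K).relIndex (c • A g P j) ∣ p
        rw [Subgroup.relIndex_pointwise_smul]
        exact ih.2
  have hle : ∀ j, A g P (j + 1) ≤ A g P j := fun j => inf_le_left
  have hmul : ∀ j, (A g P (j + 1)).relIndex (A g P j) * Nat.card (A g P (j + 1)) =
      Nat.card (A g P j) := fun j => by
    rw [← Subgroup.relIndex_bot_left (A g P (j + 1)), mul_comm,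
      Subgroup.relIndex_mul_relIndex _ _ _ bot_le (hle j), Subgroup.relIndex_bot_left]
  have hex : ∃ j, A g P (j + 1) = A g P j := by
    by_contra hne
    push Not at hne
    have : ∀ j, Nat.card (A g P j) + j ≤ Nat.card P := by
      intro j
      induction j with
      | zero => exact le_rfl
      | succ j ih =>
        have : Nat.card (A g P (j + 1)) < Nat.card (A g P j) := by
          by_contra h
          exact hne j (Subgroup.eq_of_le_of_card_ge (hle j) (not_lt.1 h))
        omega
    have h2 := this (Nat.card P)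
    have h3 : 0 < Nat.card (A g P (Nat.card P)) := Nat.card_pos
    omega
  set t := Nat.find hex with ht
  have hteq : A g P (t + 1) = A g P t := Nat.find_spec hex
  have hlt : ∀ j, j < t → A g P (j + 1) ≠ A g P j := fun j hj => Nat.find_min hex hj
  have hmulp : ∀ j, j < t → Nat.card (A g P j) = p * Nat.card (A g P (j + 1)) := by
    intro j hj
    rcases (Nat.dvd_prime hp).1 (step j).2 with h | h
    · exact absurd (le_antisymm (hle j) (Subgroup.relIndex_eq_one.1 h)) (hlt j hj)
    · rw [← hmul j, h]
  have ht1 : 1 ≤ t := by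
    by_contra h
    have h2 : A g P 1 = A g P 0 := by
      have h0 : t = 0 := by omega
      rw [h0] at hteq
      exact hteq
    have h3 : (A g P 1).relIndex (A g P 0) = p := by
      rw [show A g P 0 = c • (c⁻¹ • P) by rw [smul_inv_smul]; rfl, hA1,
        Subgroup.relIndex_pointwise_smul, hidx]
    rw [h2, Subgroup.relIndex_self] at h3
    exact hp.one_lt.ne h3
  -- generation
  have hgen : ∀ j, j + 1 < t → A g P j = A g P (j + 1) ⊔ c⁻¹ • A g P (j + 1) := by
    intro j hj
    refine (eq_of_card_mul hp le_sup_left (sup_le (hle j) ?_) ?_ (hmulp j (by omega))).symm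
    · have h3 : A g P (j + 1) ≤ c • A g P j := by
        simp only [A, hc]
        exact inf_le_right
      have h4 := (Subgroup.pointwise_smul_le_pointwise_smul_iff (a := c⁻¹)).2 h3
      rwa [inv_smul_smul] at h4
    · intro h
      have h2 : c⁻¹ • A g P (j + 1) = A g P (j + 1) :=
        Subgroup.eq_of_le_of_card_ge (le_sup_right.trans h.ge) (card_smul _ _).ge
      have h5 : c • A g P (j + 1) = A g P (j + 1) := (inv_smul_eq_iff.1 h2).symm
      apply hlt (j + 1) hj
      have h6 : A g P (j + 1 + 1) = A g P (j + 1) ⊓ c • A g P (j + 1) := by rw [hc]; rfl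
      rw [h6, h5, inf_idem]
  -- the invariant subgroup is trivial
  have hNc : c • A g P t = A g P t := by
    refine (Subgroup.eq_of_le_of_card_ge ?_ (card_smul _ _).le).symm
    exact inf_eq_left.1 hteq
  have hnorm : ∀ i, i < t → A g P (t - 1 - i) ≤ Subgroup.normalizer (A g P t : Set G) := by
    intro i
    induction i with
    | zero =>
      intro _
      have h := (step (t - 1)).1
      rw [Nat.sub_add_cancel ht1] at h
      simpa using h
    | succ i ih =>
      intro hi
      have h := hgen (t - 1 - (i + 1)) (by omega)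
      rw [show t - 1 - (i + 1) + 1 = t - 1 - i by omega] at h
      rw [h]
      refine sup_le (ih (by omega)) ?_
      have h2 := smul_le_normalizer c⁻¹ (ih (by omega))
      rwa [show c⁻¹ • A g P t = A g P t from inv_smul_eq_iff.2 hNc.symm] at h2
  have hbot : A g P t = ⊥ := by
    have hsub : ∀ j, A g P j ≤ P := by
      intro j
      induction j with
      | zero => exact le_rfl
      | succ j ih => exact inf_le_left.trans ih
    refine h1 _ (hsub t) ((Subgroup.normal_subgroupOf_iff_le_normalizer (hsub t)).2 ?_) hNc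
    have h := hnorm (t - 1) (by omega)
    rwa [Nat.sub_self] at h
  have hcard : ∀ i, i ≤ t → Nat.card (A g P (t - i)) = p ^ i := by
    intro i
    induction i with
    | zero => intro _; rw [Nat.sub_zero, hbot, Subgroup.card_bot, pow_zero]
    | succ i ih =>
      intro hi
      rw [hmulp (t - (i + 1)) (by omega), show t - (i + 1) + 1 = t - i by omega, ih (by omega),
        pow_succ, mul_comm]
  obtain ⟨x0, hx0, hx1⟩ : ∃ x0 ∈ A g P (t - 1), x0 ≠ 1 := by
    by_contra h
    push Not at h
    have h2 := hcard 1 ht1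
    rw [(Subgroup.eq_bot_iff_forall _).2 h, Subgroup.card_bot, pow_one] at h2
    exact hp.one_lt.ne h2
  have hS1 : S g x0 0 1 = A g P (t - 1) := by
    have e : S g x0 0 1 = Subgroup.zpowers x0 := by
      rw [S, Subgroup.zpowers_eq_closure]
      congr 1
      ext y
      constructor
      · rintro ⟨i, ⟨h2, h3⟩, rfl⟩
        obtain rfl : i = 0 := by omega
        simp [x]
      · rintro rfl
        exact ⟨0, ⟨le_rfl, by norm_num⟩, by simp [x]⟩
    rw [e]
    refine Subgroup.eq_of_le_of_card_ge (Subgroup.zpowers_le.2 hx0) ?_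
    rw [hcard 1 ht1, pow_one, Nat.card_zpowers]
    have h2 : orderOf x0 ∣ p := by
      have h3 := Subgroup.orderOf_dvd_natCard _ hx0
      rwa [hcard 1 ht1, pow_one] at h3
    rcases (Nat.dvd_prime hp).1 h2 with h | h
    · exact absurd (orderOf_eq_one_iff.1 h) hx1
    · rw [h]
  have hci' : ∀ a l, c⁻¹ • S g x0 a l = S g x0 (a + 1) l := fun a l => by
    have h := smul_S g x0 1 a l
    rwa [zpow_one, map_inv] at h
  have hSA : ∀ l, l ≤ t → S g x0 0 l = A g P (t - l) := by
    intro l
    induction l with
    | zero =>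
      intro _
      rw [Nat.sub_zero, hbot, S]
      simp
    | succ l ih =>
      intro hl
      rcases Nat.eq_zero_or_pos l with rfl | hl0
      · exact hS1
      · have h := hgen (t - (l + 1)) (by omega)
        rw [show t - (l + 1) + 1 = t - l by omega, ← ih (by omega), hci'] at h
        rw [h, S, S, S, ← Subgroup.closure_union, ← Set.image_union]
        congr 2
        ext i
        simp only [Set.mem_Ico, Set.mem_union]
        push_cast
        omega
  have hS0 : ∀ a l, S g x0 a l = MulAut.conj (g ^ a)⁻¹ • S g x0 0 l := fun a l => by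
    rw [smul_S, zero_add]
  refine ⟨x0, t, ht1, ⟨hp, fun a l hl => ?_, fun a l hl => ?_⟩, ?_⟩
  · rw [hS0, card_smul, hSA l hl, hcard l hl]
  · have h0 : S g x0 0 (l + 1) ⊓ S g x0 (0 + 1) (l + 1) ≤ S g x0 (0 + 1) l := by
      rw [← hci', ← hci', hSA _ hl, hSA l (by omega)]
      have e : t - l = t - (l + 1) + 1 := by omega
      rw [e]
      show _ ≤ c⁻¹ • (A g P (t - (l + 1)) ⊓ c • A g P (t - (l + 1)))
      rw [Subgroup.smul_inf, inv_smul_smul, inf_comm]
    have h2 := (Subgroup.pointwise_smul_le_pointwise_smul_iff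
      (a := MulAut.conj (g ^ a)⁻¹)).2 h0
    rw [Subgroup.smul_inf, smul_S, smul_S, smul_S] at h2
    simpa [add_comm] using h2
  · rw [hSA t le_rfl, Nat.sub_self]
    rfl

end CfsgLib.ConjChain
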